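import Cfsg.Agent.H111.JM.L27
import Cfsg.Agent.H868.JM.SevB
import Cfsg.Agent.H820.JM.TyCard

/-!
# The hypotheses `Hyp` (helper111, S5580)
-/

set_option autoImplicit false

open Cfsg

namespace Cfsg.Agent.H111.JM.HypF

open Cfsg.Agent.J4.Rep112
open Cfsg.Agent.H858 Cfsg.Agent.H858.VK
open Cfsg.Agent.H858.Loc7 (S7_eq')
open Cfsg.Agent.H858.Norm57 (S7)
open Cfsg.Agent.H868.JM (f1 f2 seven_three seven_std pow_three_cent)
open Cfsg.Agent.H878.JM.Base (y0)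

/-- the group `Spor.J4` -/
local notation "𝒢" => Cfsg.Spor.J4

theorem order_seven {G : Type*} [Group G] {f : G} (h1 : f ≠ 1) (h7 : f ^ 7 = 1) : orderOf f = 7 :=
  orderOf_eq_prime (hp := ⟨by norm_num⟩) h7 h1

theorem nor {f g : 𝒢} (h1 : f ≠ 1) (h7 : f ^ 7 = 1) (hg : g * f * g⁻¹ ∈ Subgroup.zpowers f) :
    g ^ 3 * f * (g ^ 3)⁻¹ = f := by
  obtain ⟨k, hk⟩ := seven_std (order_seven h1 h7)
  have hz : Subgroup.zpowers (k * f * k⁻¹) = S7 := by
    rw [S7_eq']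
    rcases hk with hk | hk
    · rw [hk]
    · rw [hk, Subgroup.zpowers_inv]
  -- the conjugate of `g`
  have hn : k * g * k⁻¹ ∈ Subgroup.normalizer (S7 : Set 𝒢) := by
    obtain ⟨j, hj⟩ := Subgroup.mem_zpowers_iff.1 hg
    obtain ⟨i, hi⟩ := (Submonoid.mem_powers_iff _ _).1
      (mem_powers_iff_mem_zpowers.2 (Subgroup.mem_zpowers_iff.2 ⟨j, hj⟩ : g * f * g⁻¹ ∈ Subgroup.zpowers f))
    rw [← hz]
    refine NormC.mem_normalizer_zpowers (k := i) ?_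
    rw [conj_pow, hi]
    group
  have h3 := pow_three_cent hn
  rw [Subgroup.mem_centralizer_iff] at h3
  have h4 : k * f * k⁻¹ ∈ S7 := by rw [← hz]; exact Subgroup.mem_zpowers _
  have h5 := h3 _ h4
  rw [conj_pow] at h5
  have h6 : f * g ^ 3 = g ^ 3 * f := by
    have e := congrArg (fun x => k⁻¹ * x * k) h5
    calc f * g ^ 3 = k⁻¹ * (k * f * k⁻¹ * (k * g ^ 3 * k⁻¹)) * k := by group
      _ = k⁻¹ * (k * g ^ 3 * k⁻¹ * (k * f * k⁻¹)) * k := e
      _ = g ^ 3 * f := by group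
  rw [← h6, mul_inv_cancel_right]

/-- **the hypotheses** -/
theorem hyp : Trip.Hyp where
  card := Cfsg.Agent.H820.JM.card_TY
  base := by
    intro f y h1 h7 _ y3 hy
    obtain ⟨g, h2, h3⟩ := seven_three (order_seven h1 h7) y3 hy
    rw [EnvF.y0_eq] at h2
    exact ⟨g, h2, h3⟩
  nor := fun _ _ h1 h7 hg => nor h1 h7 hg

end Cfsg.Agent.H111.JM.HypF
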