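import Cfsg.Agent.H111.JM.Trip

/-!
# No maximal subgroup of `J4` has socle `PSL₂(7)` (helper111, S5580)
-/

set_option autoImplicit false
set_option maxRecDepth 100000

open Cfsg

namespace Cfsg.Agent.H111.JM.L27

open Cfsg.Agent.Lib Cfsg.Agent.Lib.F2Mat Cfsg.Agent.Lib.F2MatGroup
open Cfsg.Agent.J4.Rep112
open Cfsg.Agent.H858.VK
open Cfsg.Agent.H878.JM.Base (c1 c2 c3 t1 t2 t3 y0)
open Cfsg.Agent.H860.JM Cfsg.Agent.H856.JM
open Cfsg.Agent.H111.JM.Eng Cfsg.Agent.H111.JM.Env Cfsg.Agent.H111.JM.EnvF Cfsg.Agent.H111.JM.G0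
open Cfsg.Agent.H111.JM.Sol Cfsg.Agent.H111.JM.Psl7 Cfsg.Agent.H111.JM.Trip

/-- the group `Spor.J4` -/
local notation "𝒢" => Cfsg.Spor.J4

attribute [local irreducible] c1 c2 c3 t1 t2 t3 y0

/-- row vector times word, packed -/
def vw (w : List ℕ) : ℕ → ℕ :=
  List.rec (motive := fun _ => ℕ → ℕ) (fun v => v)
    (fun i _ ih v => force (vmul 112 v (get (F2Mat.one 112) LM i)) ih) w

theorem vw_nil (v : ℕ) : vw [] v = v := rfl
theorem vw_cons (i : ℕ) (w : List ℕ) (v : ℕ) :
    vw (i :: w) v = vw w (vmul 112 v (get (F2Mat.one 112) LM i)) :=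
  force_eq (vmul 112 v (get (F2Mat.one 112) LM i)) (vw w)

theorem ra_vw (w : List ℕ) (v : ℕ) : ra (toVec 112 v) (evG L0 w) = toVec 112 (vw w v) := by
  induction w generalizing v with
  | nil => rw [evG_nil, ra_one, vw_nil]
  | cons i w ih =>
    have h := codes_get hL i
    rw [getG_map] at h
    have e : ra (toVec 112 v) (getG L0 i) = toVec 112 (vmul 112 v (get (F2Mat.one 112) LM i)) := by
      unfold ra
      rw [codes_vmul h]
    rw [evG_cons, ra_mul, e, ih, vw_cons]

theorem fix_w {w : List ℕ} {v : ℕ} (h : Nat.beq (vw w v) v = true) :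
    ra (toVec 112 v) (evG L0 w) = toVec 112 v := by
  rw [ra_vw, Nat.eq_of_beq_eq_true h]

theorem move_w {w : List ℕ} {v : ℕ} (hv : v < 2 ^ 112) (hw : vw w v < 2 ^ 112) (h : Nat.beq (vw w v) v = false) :
    ra (toVec 112 v) (evG L0 w) ≠ toVec 112 v := by
  rw [ra_vw]
  intro h0
  have h1 := toVec_inj hw hv h0
  rw [h1, Nat.beq_refl] at h
  exact absurd h (by decide)

theorem vec_ne {v : ℕ} (hv : v < 2 ^ 112) (h : v ≠ 0) : toVec 112 v ≠ 0 := by
  intro h0
  apply h
  refine toVec_inj hv (by norm_num) (h0.trans ?_)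
  funext j
  simp [toVec_apply, bz]

/-- the words of the elements of the centralizers -/
def ews : List (List ℕ) := [
  [11, 13, 11, 12, 13, 11, 4, 4, 4, 4, 6, 4, 11, 13, 12, 11, 13, 11],
  [13, 11, 12, 11, 13, 12, 13, 12, 11, 13, 6, 4, 4, 13, 11, 12, 13, 12, 13, 11, 12, 11, 13],
  [13, 11, 12, 11, 13, 12, 13, 12, 11, 13, 6, 4, 4, 13, 11, 12, 13, 12, 13, 11, 12, 11, 13],
  [11, 12, 13, 6, 13, 12, 11],
  [],
  [11, 13, 11, 13, 12, 11, 12, 13, 11, 13, 12, 11, 7, 7, 7, 11, 12, 13, 11, 13, 12, 11, 12, 13, 11, 13, 11],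
  [13, 11, 12, 11, 13, 11, 12, 13, 12, 13, 11, 12, 11, 7, 11, 12, 11, 13, 12, 13, 12, 11, 13, 11, 12, 11, 13],
  []]

/-- six of the triples have a nontrivial centralizer -/
theorem cent_ne {m : ℕ} (hm : m < 8) (h4 : m ≠ 4) (h7 : m ≠ 7) : evG L0 (ews.getD m []) ≠ 1 ∧
    evG L0 (ews.getD m []) * Fm m = Fm m * evG L0 (ews.getD m []) ∧
    evG L0 (ews.getD m []) * y0 = y0 * evG L0 (ews.getD m []) ∧
    evG L0 (ews.getD m []) * getG TJ (kr m) = getG TJ (kr m) * evG L0 (ews.getD m []) := by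
  have key : ∀ (w f : List ℕ) (k : ℕ), Nat.beq (evW 112 LM w) (evW 112 LM []) = false →
      Nat.beq (evW 112 LM (w ++ f)) (evW 112 LM (f ++ w)) = true →
      Nat.beq (evW 112 LM (w ++ [9])) (evW 112 LM ([9] ++ w)) = true →
      Nat.beq (evW 112 LM (w ++ [k])) (evW 112 LM ([k] ++ w)) = true →
      evG L0 w ≠ 1 ∧ evG L0 w * evG L0 f = evG L0 f * evG L0 w ∧ evG L0 w * getG L0 9 = getG L0 9 * evG L0 w ∧
        evG L0 w * getG L0 k = getG L0 k * evG L0 w := by
    intro w f k h1 h2 h3 h4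
    have e1 : evG L0 w ≠ evG L0 [] := ne_w h1
    have e2 := eq_w h2
    have e3 := eq_w h3
    have e4 := eq_w h4
    rw [evG_append', evG_append'] at e2
    rw [evG_append', evG_append', evG_cons, evG_nil, mul_one] at e3 e4
    exact ⟨e1, e2, e3, e4⟩
  interval_cases m
  · exact key (ews.getD 0 []) (fws.getD 0 []) 14 (by decide +kernel) (by decide +kernel) (by decide +kernel)
      (by decide +kernel)
  · exact key (ews.getD 1 []) (fws.getD 1 []) 14 (by decide +kernel) (by decide +kernel) (by decide +kernel)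
      (by decide +kernel)
  · exact key (ews.getD 2 []) (fws.getD 2 []) 15 (by decide +kernel) (by decide +kernel) (by decide +kernel)
      (by decide +kernel)
  · exact key (ews.getD 3 []) (fws.getD 3 []) 16 (by decide +kernel) (by decide +kernel) (by decide +kernel)
      (by decide +kernel)
  · exact absurd rfl h4
  · exact key (ews.getD 5 []) (fws.getD 5 []) 14 (by decide +kernel) (by decide +kernel) (by decide +kernel)
      (by decide +kernel)
  · exact key (ews.getD 6 []) (fws.getD 6 []) 15 (by decide +kernel) (by decide +kernel) (by decide +kernel)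
      (by decide +kernel)
  · exact absurd rfl h7

/-- a vector fixed by the triple 4 -/
def u4 : ℕ := 0x9d5fab6a39fd3f991c7e37951997
/-- a vector fixed by the triple 4 -/
def v4 : ℕ := 0x9b43d9a26b7e8bdcee20e8e20eb7
/-- an involution fixing `u4`, not `v4` -/
def x4 : List ℕ := [13, 14, 13]

theorem fixm4 : ∀ u ∈ [u4, v4], ra (toVec 112 u) (Fm 4) = toVec 112 u ∧ ra (toVec 112 u) y0 = toVec 112 u ∧
    ra (toVec 112 u) (getG TJ (kr 4)) = toVec 112 u := by
  have key : ∀ u, Nat.beq (vw (fws.getD 4 []) u) u = true → Nat.beq (vw [9] u) u = true →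
      Nat.beq (vw [14] u) u = true → ra (toVec 112 u) (Fm 4) = toVec 112 u ∧
      ra (toVec 112 u) y0 = toVec 112 u ∧ ra (toVec 112 u) (getG TJ (kr 4)) = toVec 112 u := by
    intro u h1 h2 h3
    have e1 := fix_w h1
    have e2 := fix_w h2
    have e3 := fix_w h3
    rw [evG_cons, evG_nil, mul_one] at e2 e3
    exact ⟨e1, e2, e3⟩
  intro u hu
  simp only [List.mem_cons, List.not_mem_nil, or_false] at hu
  rcases hu with hu | hu
  · rw [hu]; exact key _ (by decide +kernel) (by decide +kernel) (by decide +kernel)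
  · rw [hu]; exact key _ (by decide +kernel) (by decide +kernel) (by decide +kernel)

theorem fixx4 : ra (toVec 112 u4) (evG L0 x4) = toVec 112 u4 := fix_w (by decide +kernel)
theorem movex4 : ra (toVec 112 v4) (evG L0 x4) ≠ toVec 112 v4 :=
  move_w (by decide +kernel) (by decide +kernel) (by decide +kernel)
theorem ne4 : toVec 112 u4 ≠ 0 := vec_ne (by decide +kernel) (by decide +kernel)

/-- a vector fixed by the triple 7 -/
def u7 : ℕ := 0x81e8188e81e86171c0254817fc24
/-- a vector fixed by the triple 7 -/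
def v7 : ℕ := 0x5173b4a552f0237ae22fb91a0d3a
/-- an involution fixing `u7`, not `v7` -/
def x7 : List ℕ := [12, 13, 14, 13, 12]

theorem fixm7 : ∀ u ∈ [u7, v7], ra (toVec 112 u) (Fm 7) = toVec 112 u ∧ ra (toVec 112 u) y0 = toVec 112 u ∧
    ra (toVec 112 u) (getG TJ (kr 7)) = toVec 112 u := by
  have key : ∀ u, Nat.beq (vw (fws.getD 7 []) u) u = true → Nat.beq (vw [9] u) u = true →
      Nat.beq (vw [16] u) u = true → ra (toVec 112 u) (Fm 7) = toVec 112 u ∧
      ra (toVec 112 u) y0 = toVec 112 u ∧ ra (toVec 112 u) (getG TJ (kr 7)) = toVec 112 u := by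
    intro u h1 h2 h3
    have e1 := fix_w h1
    have e2 := fix_w h2
    have e3 := fix_w h3
    rw [evG_cons, evG_nil, mul_one] at e2 e3
    exact ⟨e1, e2, e3⟩
  intro u hu
  simp only [List.mem_cons, List.not_mem_nil, or_false] at hu
  rcases hu with hu | hu
  · rw [hu]; exact key _ (by decide +kernel) (by decide +kernel) (by decide +kernel)
  · rw [hu]; exact key _ (by decide +kernel) (by decide +kernel) (by decide +kernel)

theorem fixx7 : ra (toVec 112 u7) (evG L0 x7) = toVec 112 u7 := fix_w (by decide +kernel)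
theorem movex7 : ra (toVec 112 v7) (evG L0 x7) ≠ toVec 112 v7 :=
  move_w (by decide +kernel) (by decide +kernel) (by decide +kernel)
theorem ne7 : toVec 112 u7 ≠ 0 := vec_ne (by decide +kernel) (by decide +kernel)

/-- the contradiction for the triples without centralizer -/
theorem stab_false {M S : Subgroup 𝒢} (hM : IsCoatom M) (hMS : M ≤ S) {f t : 𝒢} {u v : Row} {x : 𝒢}
    (hS : S = Subgroup.closure {f, y0, t}) (hu : u ≠ 0) (h1 : ra u f = u) (h2 : ra u y0 = u) (h3 : ra u t = u)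
    (h1' : ra v f = v) (h2' : ra v y0 = v) (h3' : ra v t = v) (hx : ra u x = u) (hx' : ra v x ≠ v) : False := by
  have key : ∀ w : Row, ra w f = w → ra w y0 = w → ra w t = w → M ≤ St w := by
    intro w h1 h2 h3
    refine hMS.trans ?_
    rw [hS, Subgroup.closure_le]
    intro g hg
    simp only [Set.mem_insert_iff, Set.mem_singleton_iff] at hg
    rcases hg with hg | hg | hg
    · rw [hg]; exact h1
    · rw [hg]; exact h2
    · rw [hg]; exact h3
  refine false_of_mem hM hu (key u h1 h2 h3) hx fun h => hx' ?_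
  exact key v h1' h2' h3' h

theorem closure_congr {G : Type*} [Group G] {f F y t : G} (h : f = F ∨ f = F⁻¹) :
    Subgroup.closure {f, y, t} = Subgroup.closure {F, y, t} := by
  have key : ∀ a b : G, (a = b ∨ a = b⁻¹) → Subgroup.closure {a, y, t} ≤ Subgroup.closure {b, y, t} := by
    intro a b hab
    rw [Subgroup.closure_le]
    intro g hg
    simp only [Set.mem_insert_iff, Set.mem_singleton_iff] at hg
    have hb : b ∈ Subgroup.closure {b, y, t} := Subgroup.subset_closure (by simp)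
    rcases hg with hg | hg | hg
    · rw [hg]
      rcases hab with hab | hab
      · rw [hab]; exact hb
      · rw [hab]; exact Subgroup.inv_mem _ hb
    · rw [hg]; exact Subgroup.subset_closure (by simp)
    · rw [hg]; exact Subgroup.subset_closure (by simp)
  refine le_antisymm (key _ _ h) (key _ _ ?_)
  rcases h with h | h
  · exact Or.inl h.symm
  · right; rw [h, inv_inv]

theorem cj_closure {G : Type*} [Group G] (g f y t : G) :
    cj g (Subgroup.closure {f, y, t}) = Subgroup.closure {g * f * g⁻¹, g * y * g⁻¹, g * t * g⁻¹} := by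
  unfold cj
  rw [MonoidHom.map_closure]
  congr 1
  ext x
  simp only [Set.mem_image, Set.mem_insert_iff, Set.mem_singleton_iff]
  constructor
  · rintro ⟨a, rfl | rfl | rfl, rfl⟩
    · exact Or.inl rfl
    · exact Or.inr (Or.inl rfl)
    · exact Or.inr (Or.inr rfl)
  · rintro (rfl | rfl | rfl)
    · exact ⟨f, Or.inl rfl, rfl⟩
    · exact ⟨y, Or.inr (Or.inl rfl), rfl⟩
    · exact ⟨t, Or.inr (Or.inr rfl), rfl⟩

/-- the generators of a subgroup isomorphic to `PSL₂(7)` -/
theorem gens_sub {G : Type*} [Group G] {S : Subgroup G} {F : Type} [Field F] [Fintype F]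
    (hF : Fintype.card F = 7) (e : Nonempty (S ≃* Matrix.ProjectiveSpecialLinearGroup (Fin 2) F)) :
    Nat.card S = 168 ∧ ∃ f y t : G, f ∈ S ∧ y ∈ S ∧ t ∈ S ∧ Tri f y t ∧ S = Subgroup.closure {f, y, t} ∧
      (∀ w ∈ S, w * f * w⁻¹ = f → ∃ j : ℕ, w = f ^ j) ∧
      (∀ w ∈ S, w * y * w⁻¹ = y⁻¹ → f * w * (f * w) * (f * w) = 1 → w = t) := by
  obtain ⟨e⟩ := e
  obtain ⟨h0, f, y, t, h1, h2, h3, h4⟩ := exists_gens hF e
  refine ⟨h0, f, y, t, f.2, y.2, t.2, h1.map S.subtype S.subtype_injective, ?_, ?_, ?_⟩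
  · have h5 := congrArg (Subgroup.map S.subtype) h2
    rw [MonoidHom.map_closure, ← MonoidHom.range_eq_map, Subgroup.range_subtype] at h5
    refine h5.symm.trans (congrArg Subgroup.closure ?_)
    ext x
    simp [eq_comm]
  · intro w hw h5
    obtain ⟨j, hj⟩ := h3 ⟨w, hw⟩ (Subtype.ext h5)
    exact ⟨j, congrArg Subtype.val hj⟩
  · intro w hw h5 h6
    exact congrArg Subtype.val (h4 ⟨w, hw⟩ (Subtype.ext h5) (Subtype.ext h6))

/-- **no maximal subgroup has socle `PSL₂(7)`** -/
theorem excl_L27' (H : Hyp) {F : Type} [Field F] [Fintype F] (hF : Fintype.card F = 7) :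
    Excl (Matrix.ProjectiveSpecialLinearGroup (Fin 2) F) := by
  intro M S h e
  obtain ⟨hc, f, y, t, hf, hy, ht, hT, hS, hu1, hu2⟩ := gens_sub hF e
  have hN := NormS.norm_le hf hy ht hT hc hS hu1 hu2 (fun g hg => H.nor f g hT.f1 hT.f7 hg) h.cent
  obtain ⟨g, m, hm, h1, h2, h3⟩ := trip H hT
  have hnl := nl_cj h g
  have hM' : cj g M ≤ cj g S := Subgroup.map_mono (h.norm.trans hN)
  have hS' : cj g S = Subgroup.closure {Fm m, y0, getG TJ (kr m)} := by
    rw [← closure_congr h3, hS, cj_closure, h1, h2]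
  by_cases h4 : m = 4
  · subst h4
    obtain ⟨a1, a2, a3⟩ := fixm4 u4 (by simp)
    obtain ⟨b1, b2, b3⟩ := fixm4 v4 (by simp)
    exact stab_false hnl.coatom hM' hS' ne4 a1 a2 a3 b1 b2 b3 fixx4 movex4
  by_cases h7 : m = 7
  · subst h7
    obtain ⟨a1, a2, a3⟩ := fixm7 u7 (by simp)
    obtain ⟨b1, b2, b3⟩ := fixm7 v7 (by simp)
    exact stab_false hnl.coatom hM' hS' ne7 a1 a2 a3 b1 b2 b3 fixx7 movex7
  obtain ⟨a0, a1, a2, a3⟩ := cent_ne hm h4 h7
  apply a0
  have h5 : evG L0 (ews.getD m []) ∈ Subgroup.centralizer ((cj g S : Subgroup 𝒢) : Set 𝒢) := by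
    rw [hS', Subgroup.centralizer_closure, Subgroup.mem_centralizer_iff]
    intro x hx
    simp only [Set.mem_insert_iff, Set.mem_singleton_iff] at hx
    rcases hx with hx | hx | hx
    · rw [hx]; exact a1.symm
    · rw [hx]; exact a2.symm
    · rw [hx]; exact a3.symm
  rw [hnl.cent] at h5
  exact Subgroup.mem_bot.1 h5

end Cfsg.Agent.H111.JM.L27
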