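import Cfsg.Agent.H111.JM.ZList
import Cfsg.Agent.H111.JM.U33Gens
import Cfsg.Agent.H860.JM.Cj

/-!
# The maximal subgroups of `J4` with socle `PSU₃(3)` are conjugate (helper111, S5580)
-/

set_option autoImplicit false
set_option maxRecDepth 100000

open Cfsg

namespace Cfsg.Agent.H111.JM.U33

open Cfsg.Agent.Lib Cfsg.Agent.Lib.F2Mat Cfsg.Agent.Lib.F2MatGroup
open Cfsg.Agent.J4.Rep112
open Cfsg.Agent.H858.VK
open Cfsg.Agent.H878.JM.Base (c1 c2 c3 t1 t2 t3 y0)
open Cfsg.Agent.H860.JM Cfsg.Agent.H856.JM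
open Cfsg.Agent.H111.JM.Eng Cfsg.Agent.H111.JM.Env Cfsg.Agent.H111.JM.EnvF Cfsg.Agent.H111.JM.G0
open Cfsg.Agent.H111.JM.Sol Cfsg.Agent.H111.JM.Psl7 Cfsg.Agent.H111.JM.Trip
open Cfsg.Agent.H111.JM.ZD (mz)

/-- the group `Spor.J4` -/
local notation "𝒢" => Cfsg.Spor.J4

attribute [local irreducible] c1 c2 c3 t1 t2 t3 y0

/-- the generators of a subgroup isomorphic to `PSU₃(3)` -/
theorem gens_sub {G : Type*} [Group G] {S : Subgroup G} {F : Type*} [Field F] [Fintype F]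
    (hF : Fintype.card F = 9) (e : Nonempty (S ≃* Cfsg.PSU 3 F 3)) :
    ∃ f y t z : G, Tri f y t ∧ z ^ 3 = 1 ∧ z ≠ 1 ∧ z * y = y * z ∧ z * t = t * z ∧ (f * z) ^ 6 = 1 ∧
      S = Subgroup.closure {f, y, t, z} := by
  obtain ⟨e⟩ := e
  obtain ⟨f, y, t, z, h1, h2, h3, h4, h5, h6, h7⟩ := U33Gens.exists_gens hF e
  refine ⟨f, y, t, z, h1.map S.subtype S.subtype_injective, congrArg Subtype.val h2,
    fun h => h3 (Subtype.ext h), congrArg Subtype.val h4, congrArg Subtype.val h5, congrArg Subtype.val h6, ?_⟩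
  have h8 := congrArg (Subgroup.map S.subtype) h7
  rw [MonoidHom.map_closure, ← MonoidHom.range_eq_map, Subgroup.range_subtype] at h8
  refine h8.symm.trans (congrArg Subgroup.closure ?_)
  ext x
  simp [eq_comm]

theorem closure_congr {G : Type*} [Group G] {f F y t z Z : G} (h : f = F ∨ f = F⁻¹) (h' : z = Z ∨ z = Z⁻¹) :
    Subgroup.closure {f, y, t, z} = Subgroup.closure {F, y, t, Z} := by
  have key : ∀ a b c d : G, (a = b ∨ a = b⁻¹) → (c = d ∨ c = d⁻¹) →
      Subgroup.closure {a, y, t, c} ≤ Subgroup.closure {b, y, t, d} := by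
    intro a b c d hab hcd
    rw [Subgroup.closure_le]
    intro g hg
    simp only [Set.mem_insert_iff, Set.mem_singleton_iff] at hg
    have hb : b ∈ Subgroup.closure {b, y, t, d} := Subgroup.subset_closure (by simp)
    have hd : d ∈ Subgroup.closure {b, y, t, d} := Subgroup.subset_closure (by simp)
    rcases hg with hg | hg | hg | hg
    · rw [hg]
      rcases hab with hab | hab
      · rw [hab]; exact hb
      · rw [hab]; exact Subgroup.inv_mem _ hb
    · rw [hg]; exact Subgroup.subset_closure (by simp)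
    · rw [hg]; exact Subgroup.subset_closure (by simp)
    · rw [hg]
      rcases hcd with hcd | hcd
      · rw [hcd]; exact hd
      · rw [hcd]; exact Subgroup.inv_mem _ hd
  have sw : ∀ {a b : G}, (a = b ∨ a = b⁻¹) → (b = a ∨ b = a⁻¹) := by
    intro a b h
    rcases h with h | h
    · exact Or.inl h.symm
    · right; rw [h, inv_inv]
  exact le_antisymm (key _ _ _ _ h h') (key _ _ _ _ (sw h) (sw h'))

theorem cj_closure {G : Type*} [Group G] (g f y t z : G) :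
    cj g (Subgroup.closure {f, y, t, z}) =
      Subgroup.closure {g * f * g⁻¹, g * y * g⁻¹, g * t * g⁻¹, g * z * g⁻¹} := by
  unfold cj
  rw [MonoidHom.map_closure]
  congr 1
  ext x
  simp only [Set.mem_image, Set.mem_insert_iff, Set.mem_singleton_iff]
  constructor
  · rintro ⟨a, rfl | rfl | rfl | rfl, rfl⟩
    · exact Or.inl rfl
    · exact Or.inr (Or.inl rfl)
    · exact Or.inr (Or.inr (Or.inl rfl))
    · exact Or.inr (Or.inr (Or.inr rfl))
  · rintro (rfl | rfl | rfl | rfl)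
    · exact ⟨f, Or.inl rfl, rfl⟩
    · exact ⟨y, Or.inr (Or.inl rfl), rfl⟩
    · exact ⟨t, Or.inr (Or.inr (Or.inl rfl)), rfl⟩
    · exact ⟨z, Or.inr (Or.inr (Or.inr rfl)), rfl⟩

theorem conj_comm {G : Type*} [Group G] (g : G) {a b : G} (h : a * b = b * a) :
    g * a * g⁻¹ * (g * b * g⁻¹) = g * b * g⁻¹ * (g * a * g⁻¹) := by
  calc g * a * g⁻¹ * (g * b * g⁻¹) = g * (a * b) * g⁻¹ := by group
    _ = g * (b * a) * g⁻¹ := by rw [h]
    _ = g * b * g⁻¹ * (g * a * g⁻¹) := by group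

theorem comm_inv {G : Type*} [Group G] {a b : G} (h : a * b = b * a) : a⁻¹ * b = b * a⁻¹ :=
  (Commute.inv_left (show Commute a b from h)).eq

theorem six_inv {G : Type*} [Group G] {a z : G} (h : (a⁻¹ * z) ^ 6 = 1) : (a * z⁻¹) ^ 6 = 1 := by
  have h1 : ((a⁻¹ * z)⁻¹) ^ 6 = 1 := by rw [inv_pow, h, inv_one]
  have h2 : (a⁻¹ * z)⁻¹ = z⁻¹ * a := by rw [mul_inv_rev, inv_inv]
  have h3 : a * z⁻¹ = z * (z⁻¹ * a) * z⁻¹ := by group
  rw [h3, conj_pow, ← h2, h1, mul_one, mul_inv_cancel]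

/-- **the subgroups isomorphic to `PSU₃(3)` are conjugate** -/
theorem socle_conj [Finite 𝒢] (H : Hyp) {S : Subgroup 𝒢} {F : Type*} [Field F] [Fintype F]
    (hF : Fintype.card F = 9) (e : Nonempty (S ≃* Cfsg.PSU 3 F 3)) :
    ∃ g x : 𝒢, Codes 112 (rho x) mz ∧ cj g S = Subgroup.closure {Fm 4, y0, getG TJ (kr 4), x} := by
  obtain ⟨f, y, t, z, hT, z3, z1, zy, zt, fz, hS⟩ := gens_sub hF e
  obtain ⟨g, m, hm, h1, h2, h3⟩ := trip H hT
  have hS' : cj g S = Subgroup.closure {g * f * g⁻¹, y0, getG TJ (kr m), g * z * g⁻¹} := by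
    rw [hS, cj_closure, h1, h2]
  have a1 : g * z * g⁻¹ * y0 = y0 * (g * z * g⁻¹) := by rw [← h1]; exact conj_comm g zy
  have a2 : g * z * g⁻¹ * getG TJ (kr m) = getG TJ (kr m) * (g * z * g⁻¹) := by rw [← h2]; exact conj_comm g zt
  have a3 : (g * z * g⁻¹) ^ 3 = 1 := by rw [conj_pow, z3, mul_one, mul_inv_cancel]
  have a4 : g * z * g⁻¹ ≠ 1 := by
    intro h
    apply z1
    have : z = g⁻¹ * (g * z * g⁻¹) * g := by group
    rw [this, h]; group
  have a6 : (g * f * g⁻¹ * (g * z * g⁻¹)) ^ 6 = 1 := by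
    have : g * f * g⁻¹ * (g * z * g⁻¹) = g * (f * z) * g⁻¹ := by group
    rw [this, conj_pow, fz, mul_one, mul_inv_cancel]
  generalize g * z * g⁻¹ = x at hS' a1 a2 a3 a4 a6
  have cube : ∀ {x : 𝒢}, x ^ 3 = 1 → x * x * x = 1 := by
    intro x hx
    rw [← hx, pow_succ, pow_two]
  rcases h3 with h3 | h3
  · rw [h3] at a6 hS'
    obtain ⟨rfl, h4⟩ := ZList.zcase hm a1 a2 (cube a3) a4 a6
    exact ⟨g, x, h4, hS'⟩
  · rw [h3] at a6 hS'
    obtain ⟨rfl, h4⟩ := ZList.zcase hm (comm_inv a1) (comm_inv a2)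
      (cube (by rw [inv_pow, a3, inv_one])) (fun h => a4 (inv_eq_one.1 h)) (six_inv a6)
    refine ⟨g, x⁻¹, h4, ?_⟩
    rw [hS']
    exact closure_congr (Or.inr rfl) (Or.inr (inv_inv x).symm)

theorem norm_eq (hs : IsSimpleGroup 𝒢) {M S : Subgroup 𝒢} (h : NL M S) :
    Subgroup.normalizer (S : Set 𝒢) = M := by
  rcases h.coatom.le_iff.1 h.norm with h1 | h1
  · exfalso
    have hn : S.Normal := Subgroup.normalizer_eq_top_iff.1 h1
    rcases hn.eq_bot_or_eq_top with h2 | h2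
    · have h3 := h.simple.toNontrivial
      rw [h2] at h3
      exact not_subsingleton (⊥ : Subgroup 𝒢) inferInstance
    · exact h.coatom.1 (top_le_iff.1 (h2 ▸ h.le))
  · exact h1

theorem cj_inv {G : Type*} [Group G] (g : G) (P : Subgroup G) : cj g⁻¹ (cj g P) = P := by
  rw [cj_cj, inv_mul_cancel, cj_eq_iff]
  exact Subgroup.one_mem _

/-- **the maximal subgroups of `J4` with socle `PSU₃(3)` are conjugate** -/
theorem one_U33' (hs : IsSimpleGroup 𝒢) (H : Hyp) {F : Type} [Field F] [Fintype F]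
    (hF : Fintype.card F = 9) : OneCl (Cfsg.PSU 3 F 3) := by
  intro M S M' S' h h' he he'
  obtain ⟨g, x, hx, hg⟩ := socle_conj H hF he
  obtain ⟨g', x', hx', hg'⟩ := socle_conj H hF he'
  have hxx : x = x' := rho_injective (Codes.eq hx hx' (Nat.beq_refl _))
  refine ⟨g'⁻¹ * g, ?_⟩
  have h1 : S' = cj (g'⁻¹ * g) S := by
    rw [← cj_cj, hg, hxx, ← hg', cj_inv]
  rw [← norm_eq hs h, ← norm_eq hs h', ← normalizer_cj, ← h1]

end Cfsg.Agent.H111.JM.U33
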