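import Cfsg.Agent.H111.JM.HypF
import Cfsg.Agent.H111.JM.U33

/-!
# The rows `PSL₂(7)` and `PSU₃(3)` of the maximal subgroups of `J4` (helper111, S5580)
-/

set_option autoImplicit false

open Cfsg

namespace Cfsg.Agent.H111.JM

open Cfsg.Agent.H860.JM

/-- **no maximal subgroup of `J4` has socle `PSL₂(7)`** -/
theorem excl_L27 {F : Type} [Field F] [Fintype F] (h : Fintype.card F = 7) :
    Excl (Matrix.ProjectiveSpecialLinearGroup (Fin 2) F) := L27.excl_L27' HypF.hyp h

/-- **the maximal subgroups of `J4` with socle `PSU₃(3)` are conjugate** -/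
theorem one_U33 {F : Type} [Field F] [Fintype F] (h : Fintype.card F = 9) : OneCl (Cfsg.PSU 3 F 3) :=
  U33.one_U33' Cfsg.Agent.H820.JM.simpleJ4 HypF.hyp h

end Cfsg.Agent.H111.JM
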