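import Cfsg.Agent.H111.JM.SolD
import Cfsg.Agent.H111.JM.NormS
import Cfsg.Agent.H856.JM.An

/-!
# Generating triples of `PSL₂(7)` in `J4` (helper111, S5580)
-/

set_option autoImplicit false
set_option maxRecDepth 100000

open Cfsg

namespace Cfsg.Agent.H111.JM.Trip

open Cfsg.Agent.Lib Cfsg.Agent.Lib.F2Mat Cfsg.Agent.Lib.F2MatGroup
open Cfsg.Agent.J4.Rep112
open Cfsg.Agent.H858.VK
open Cfsg.Agent.H868.JM (f1 f2 q1 c6)
open Cfsg.Agent.H878.JM.Base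
open Cfsg.Agent.H111.JM.Eng Cfsg.Agent.H111.JM.Env Cfsg.Agent.H111.JM.EnvF Cfsg.Agent.H111.JM.G0
open Cfsg.Agent.H111.JM.Sol Cfsg.Agent.H111.JM.Psl7

/-- the facts proved elsewhere: the number of involutions inverting `y0`, the classes of Frobenius groups of
order 21, the normalizer of an element of order 7 -/
structure Hyp : Prop where
  card : Nat.card {t // TY t} ≤ 10296
  base : ∀ f y : Cfsg.Spor.J4, f ≠ 1 → f ^ 7 = 1 → y ≠ 1 → y ^ 3 = 1 → y * f * y⁻¹ = f ^ 2 →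
    ∃ g, g * y * g⁻¹ = y0 ∧ (g * f * g⁻¹ = f1 ∨ g * f * g⁻¹ = f1⁻¹ ∨ g * f * g⁻¹ = f2 ∨ g * f * g⁻¹ = f2⁻¹)
  nor : ∀ f g : Cfsg.Spor.J4, f ≠ 1 → f ^ 7 = 1 → g * f * g⁻¹ ∈ Subgroup.zpowers f → g ^ 3 * f * (g ^ 3)⁻¹ = f

/-- the word of `cw m * f_i * (cw m)⁻¹` -/
def fws : List (List ℕ) := [
  [11, 13, 11, 12, 13, 11, 0, 11, 13, 12, 11, 13, 11],
  [13, 11, 12, 11, 13, 12, 13, 12, 11, 13, 0, 13, 11, 12, 13, 12, 13, 11, 12, 11, 13],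
  [13, 11, 12, 11, 13, 12, 13, 12, 11, 13, 0, 13, 11, 12, 13, 12, 13, 11, 12, 11, 13],
  [11, 12, 13, 0, 13, 12, 11],
  [11, 13, 11, 13, 12, 2, 12, 13, 11, 13, 11],
  [11, 13, 11, 13, 12, 11, 12, 13, 11, 13, 12, 11, 2, 11, 12, 13, 11, 13, 12, 11, 12, 13, 11, 13, 11],
  [13, 11, 12, 11, 13, 11, 12, 13, 12, 13, 11, 12, 11, 2, 11, 12, 11, 13, 12, 13, 12, 11, 13, 11, 12, 11, 13],
  [11, 13, 11, 13, 11, 12, 13, 11, 12, 2, 12, 11, 13, 12, 11, 13, 11, 13, 11]]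

/-- the element `cw m * f_i * (cw m)⁻¹` -/
noncomputable def Fm (m : ℕ) : Cfsg.Spor.J4 := evG L0 (fws.getD m [])

theorem fw_eq (w : List ℕ) (k : ℕ) (hw : ∀ i ∈ w, i = 6 ∨ 11 ≤ i) :
    evG L0 (w ++ ([k] ++ w.reverse)) = evG L0 w * getG L0 k * (evG L0 w)⁻¹ := by
  rw [evG_append', evG_append', evG_reverse hw, evG_cons, evG_nil, mul_one, mul_assoc]

attribute [local irreducible] c1 c2 c3 t1 t2 t3 y0 f1 f2 q1 c6

theorem Fm1 {m : ℕ} (hm : m < 4) : Fm m = cw m * f1 * (cw m)⁻¹ := by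
  interval_cases m
  · exact fw_eq pw0 0 (by decide)
  · exact fw_eq pw1 0 (by decide)
  · exact fw_eq pw2 0 (by decide)
  · exact fw_eq pw3 0 (by decide)

theorem Fm2 {m : ℕ} (hm : 4 ≤ m) (hm' : m < 8) : Fm m = cw m * f2 * (cw m)⁻¹ := by
  interval_cases m
  · exact fw_eq pw4 2 (by decide)
  · exact fw_eq pw5 2 (by decide)
  · exact fw_eq pw6 2 (by decide)
  · exact fw_eq pw7 2 (by decide)

theorem sol_inv {G : Type*} [Group G] {f t : G} (ht : t * t = 1) (h : f⁻¹ * t * (f⁻¹ * t) * (f⁻¹ * t) = 1) :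
    f * t * (f * t) * (f * t) = 1 := by
  have h1 : t⁻¹ = t := inv_eq_of_mul_eq_one_left ht
  calc f * t * (f * t) * (f * t) = t⁻¹ * (t * f * (t * f) * (t * f)) * t := by group
    _ = t⁻¹ * (t⁻¹ * f * (t⁻¹ * f) * (t⁻¹ * f)) * t := by rw [h1]
    _ = t⁻¹ * (f⁻¹ * t * (f⁻¹ * t) * (f⁻¹ * t))⁻¹ * t := by simp only [mul_inv_rev, inv_inv, mul_assoc]
    _ = 1 := by rw [h, inv_one, mul_one, inv_mul_cancel]

theorem conj_mul3 {G : Type*} [Group G] (g a b : G) (h : a * b * (a * b) * (a * b) = 1) :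
    g * a * g⁻¹ * (g * b * g⁻¹) * (g * a * g⁻¹ * (g * b * g⁻¹)) * (g * a * g⁻¹ * (g * b * g⁻¹)) = 1 := by
  calc _ = g * (a * b * (a * b) * (a * b)) * g⁻¹ := by group
    _ = 1 := by rw [h]; group

/-- **the triples** -/
theorem trip [Finite Cfsg.Spor.J4] (H : Hyp) {f y t : Cfsg.Spor.J4} (h : Tri f y t) :
    ∃ g, ∃ m < 8, g * y * g⁻¹ = y0 ∧ g * t * g⁻¹ = getG TJ (kr m) ∧
      (g * f * g⁻¹ = Fm m ∨ g * f * g⁻¹ = (Fm m)⁻¹) := by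
  obtain ⟨g, hy, hf⟩ := H.base f y h.f1 h.f7 h.y1 h.y3 h.yf
  have hT : TY (g * t * g⁻¹) := by
    constructor
    · calc g * t * g⁻¹ * (g * t * g⁻¹) = g * (t * t) * g⁻¹ := by group
        _ = 1 := by rw [h.tt]; group
    · calc g * t * g⁻¹ * y0 * (g * t * g⁻¹)⁻¹ = g * (t * (g⁻¹ * y0 * g) * t⁻¹) * g⁻¹ := by group
        _ = g * (t * y * t⁻¹) * g⁻¹ := by rw [← hy]; group
        _ = y0⁻¹ := by rw [h.ty, ← hy]; group
  have hS := conj_mul3 g f t h.ft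
  have key : ∀ (m : ℕ) (c f' : Cfsg.Spor.J4), m < 8 → c * f' = f' * c → c * y0 = y0 * c →
      c * (g * t * g⁻¹) * c⁻¹ = rm m → Fm m = cw m * f' * (cw m)⁻¹ → (g * f * g⁻¹ = f' ∨ g * f * g⁻¹ = f'⁻¹) →
      ∃ g, ∃ m < 8, g * y * g⁻¹ = y0 ∧ g * t * g⁻¹ = getG TJ (kr m) ∧
        (g * f * g⁻¹ = Fm m ∨ g * f * g⁻¹ = (Fm m)⁻¹) := by
    intro m c f' hm h1 h2 h3 h4 h5
    have h1' : c * f' * c⁻¹ = f' := by rw [h1, mul_inv_cancel_right]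
    refine ⟨cw m * c * g, m, hm, ?_, ?_, ?_⟩
    · calc cw m * c * g * y * (cw m * c * g)⁻¹ = cw m * (c * (g * y * g⁻¹)) * c⁻¹ * (cw m)⁻¹ := by group
        _ = y0 := by rw [hy, h2, ← mul_assoc, mul_inv_cancel_right, cw_comm, mul_inv_cancel_right]
    · calc cw m * c * g * t * (cw m * c * g)⁻¹ = cw m * (c * (g * t * g⁻¹) * c⁻¹) * (cw m)⁻¹ := by group
        _ = getG TJ (kr m) := by rw [h3, rm_eq hm]; group
    · rcases h5 with h5 | h5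
      · left
        calc cw m * c * g * f * (cw m * c * g)⁻¹ = cw m * (c * (g * f * g⁻¹) * c⁻¹) * (cw m)⁻¹ := by group
          _ = Fm m := by rw [h5, h1', h4]
      · right
        calc cw m * c * g * f * (cw m * c * g)⁻¹ = cw m * (c * (g * f * g⁻¹) * c⁻¹) * (cw m)⁻¹ := by group
          _ = cw m * (c * f' * c⁻¹)⁻¹ * (cw m)⁻¹ := by rw [h5]; group
          _ = (Fm m)⁻¹ := by rw [h1', h4]; group
  rcases hf with hf | hf | hf | hf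
  · obtain ⟨m, hm, c, h1, h2, h3⟩ := sol1 H.card hT (by unfold EnvF.Sol; rw [← hf]; exact hS)
    exact key m c f1 (by omega) h1 h2 h3 (Fm1 hm) (Or.inl hf)
  · obtain ⟨m, hm, c, h1, h2, h3⟩ := sol1 H.card hT (by
      unfold EnvF.Sol
      rw [hf] at hS
      exact sol_inv hT.1 hS)
    exact key m c f1 (by omega) h1 h2 h3 (Fm1 hm) (Or.inr hf)
  · obtain ⟨m, hm, hm', c, h1, h2, h3⟩ := sol2 H.card hT (by unfold EnvF.Sol; rw [← hf]; exact hS)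
    exact key m c f2 hm' h1 h2 h3 (Fm2 hm hm') (Or.inl hf)
  · obtain ⟨m, hm, hm', c, h1, h2, h3⟩ := sol2 H.card hT (by
      unfold EnvF.Sol
      rw [hf] at hS
      exact sol_inv hT.1 hS)
    exact key m c f2 hm' h1 h2 h3 (Fm2 hm hm') (Or.inr hf)

end Cfsg.Agent.H111.JM.Trip
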