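import Cfsg.Agent.H111.JM.PZ.Z00
import Cfsg.Agent.H111.JM.PZ.Z01
import Cfsg.Agent.H111.JM.PZ.Z02
import Cfsg.Agent.H111.JM.PZ.Z03
import Cfsg.Agent.H111.JM.PZ.Z04
import Cfsg.Agent.H111.JM.PZ.Z05
import Cfsg.Agent.H111.JM.L27
import Cfsg.Agent.H854.Ore.J4Cent

/-!
# The elements of order 3 of the centralizers of `⟨y0, t_k⟩` (helper111, S5580)
-/

set_option autoImplicit false
set_option maxRecDepth 100000

open Cfsg

namespace Cfsg.Agent.H111.JM.ZAll

open Cfsg.Agent.Lib Cfsg.Agent.Lib.F2Mat Cfsg.Agent.Lib.F2MatGroup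
open Cfsg.Agent.J4.Rep112
open Cfsg.Agent.H858.VK
open Cfsg.Agent.H878.JM.Base (c1 c2 c3 t1 t2 t3 y0 y0_cube y0_ne c1_y0 c2_y0 c3_y0)
open Cfsg.Agent.H111.JM.Eng Cfsg.Agent.H111.JM.Env Cfsg.Agent.H111.JM.G0
open Cfsg.Agent.H111.JM.TList Cfsg.Agent.H111.JM.Sol Cfsg.Agent.H111.JM.Trip
open Cfsg.Agent.H111.JM.EngR Cfsg.Agent.H111.JM.ZD Cfsg.Agent.H111.JM.PZ

/-- the group `Spor.J4` -/
local notation "𝒢" => Cfsg.Spor.J4

attribute [local irreducible] c1 c2 c3 t1 t2 t3 y0

/-- the centralizer of `y0` -/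
noncomputable def NY : Subgroup 𝒢 := Subgroup.centralizer {y0}

theorem mem_NY {g : 𝒢} : g ∈ NY ↔ g * y0 = y0 * g := Subgroup.mem_centralizer_singleton_iff

theorem card_NY : Nat.card NY = 2661120 := by
  refine H854.Ore.cent_three (orderOf_eq_prime (hp := ⟨Nat.prime_three⟩) ?_ y0_ne)
  rw [pow_succ, pow_two, mul_assoc]; exact y0_cube

/-! ### The orbits -/

theorem card_orbit_mul {G : Type*} [Group G] (N : Subgroup G) (u : G) :
    {v : G | ∃ n ∈ N, n * u * n⁻¹ = v}.ncard * Nat.card (N ⊓ Subgroup.centralizer {u} : Subgroup G) =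
      Nat.card N := by
  let act : MulAction N G := MulAction.compHom G (MulAut.conj.comp N.subtype)
  have hs : ∀ n : N, n • u = (n : G) * u * (n : G)⁻¹ := fun n => rfl
  have h1 : {v : G | ∃ n ∈ N, n * u * n⁻¹ = v} = MulAction.orbit N u := by
    ext v
    constructor
    · rintro ⟨n, hn, rfl⟩
      exact ⟨⟨n, hn⟩, rfl⟩
    · rintro ⟨n, rfl⟩
      exact ⟨n, n.2, rfl⟩
  have h2 : (N ⊓ Subgroup.centralizer {u} : Subgroup G) = (MulAction.stabilizer N u).map N.subtype := by
    ext x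
    rw [Subgroup.mem_inf, Subgroup.mem_centralizer_singleton_iff, Subgroup.mem_map]
    constructor
    · rintro ⟨hx, hc⟩
      refine ⟨⟨x, hx⟩, ?_, rfl⟩
      rw [MulAction.mem_stabilizer_iff, hs]
      show x * u * x⁻¹ = u
      rw [hc, mul_inv_cancel_right]
    · rintro ⟨n, hn, rfl⟩
      rw [MulAction.mem_stabilizer_iff, hs] at hn
      refine ⟨n.2, ?_⟩
      show (n : G) * u = u * n
      exact mul_inv_eq_iff_eq_mul.1 hn
  rw [h1, h2, Subgroup.card_map_of_injective N.subtype_injective, ← Nat.card_coe_set_eq,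
    Nat.card_congr (MulAction.orbitEquivQuotientStabilizer N u)]
  exact (Subgroup.card_eq_card_quotient_mul_card_subgroup _).symm

theorem vis_length {G : Type*} [Group G] (C : List G) (w : List ℕ) (st : List G) :
    (Eng.vis C w st).length = w.countP (fun i => i != 0) := by
  induction w generalizing st with
  | nil => rfl
  | cons i w ih =>
    rcases i with _ | k
    · rw [Eng.vis_zero, ih]
      rfl
    · rw [Eng.vis_succ, List.length_cons, ih, List.countP_cons]
      rfl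

theorem length_flat (P : List Piece) : ((P.map (Piece.vis CJ TJ)).flatten).length =
    (P.map fun p => p.prog.countP (fun i => i != 0)).sum := by
  rw [List.length_flatten, List.map_map]
  congr 1
  refine List.map_congr_left fun p _ => ?_
  exact vis_length _ _ _

/-- the elements of a piece are conjugate to the root under `NY` -/
theorem vis_conj {p : Piece} {k : ℕ} (hp : p.root = k) :
    ∀ t ∈ p.vis CJ TJ, t = 1 ∨ ∃ n ∈ NY, n * getG TJ k * n⁻¹ = t := by
  have key : ∀ c ∈ CJ, ∀ g : 𝒢, (g = 1 ∨ ∃ n ∈ NY, n * getG TJ k * n⁻¹ = g) →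
      (c⁻¹ * g * c = 1 ∨ ∃ n ∈ NY, n * getG TJ k * n⁻¹ = c⁻¹ * g * c) := by
    intro c hc g hg
    have hcN : c ∈ NY := by
      rw [mem_NY]
      simp only [CJ, List.mem_cons, List.not_mem_nil, or_false] at hc
      rcases hc with h | h | h
      · rw [h]; exact c1_y0
      · rw [h]; exact c2_y0
      · rw [h]; exact c3_y0
    rcases hg with hg | ⟨n, hn, hg⟩
    · left; rw [hg]; group
    · right
      refine ⟨c⁻¹ * n, NY.mul_mem (NY.inv_mem hcN) hn, ?_⟩
      rw [← hg]; group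
  unfold Piece.vis
  rw [hp]
  refine Eng.vis_mem (P := fun g => g = 1 ∨ ∃ n ∈ NY, n * getG TJ k * n⁻¹ = g) (Or.inl rfl) key ?_
  refine Eng.pstk_mem (P := fun g => g = 1 ∨ ∃ n ∈ NY, n * getG TJ k * n⁻¹ = g) (Or.inl rfl) key ?_
  intro g hg
  rw [List.mem_singleton] at hg
  exact Or.inr ⟨1, NY.one_mem, by rw [hg]; group⟩

theorem orbit_ge {P : List Piece} {k N : ℕ} (hP : P.Sublist PL) (hr : ∀ p ∈ P, p.root = k)
    (hN : (P.map fun p => p.prog.countP (fun i => i != 0)).sum = N) :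
    N ≤ {v : 𝒢 | ∃ n ∈ NY, n * getG TJ k * n⁻¹ = v}.ncard := by
  classical
  have hsub : ((P.map (Piece.vis CJ TJ)).flatten).Sublist VL := (hP.map _).flatten
  have hnd := nodup_VL.sublist hsub
  have h1 : (((P.map (Piece.vis CJ TJ)).flatten).toFinset : Set 𝒢) ⊆
      {v : 𝒢 | ∃ n ∈ NY, n * getG TJ k * n⁻¹ = v} := by
    intro x hx
    rw [List.coe_toFinset] at hx
    obtain ⟨l, hl, h1⟩ := List.mem_flatten.1 hx
    obtain ⟨p, hp, rfl⟩ := List.mem_map.1 hl
    exact (vis_conj (hr p hp) x h1).resolve_left (VL_ne (hsub.subset hx))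
  have h3 := Set.ncard_le_ncard h1 (Set.toFinite _)
  rwa [Set.ncard_coe_finset, List.toFinset_card_of_nodup hnd, length_flat, hN] at h3

theorem card_le {P : List Piece} {k N m : ℕ} (hP : P.Sublist PL) (hr : ∀ p ∈ P, p.root = k)
    (hN : (P.map fun p => p.prog.countP (fun i => i != 0)).sum = N) (hm : 2661120 < N * (m + 1)) :
    Nat.card (NY ⊓ Subgroup.centralizer {getG TJ k} : Subgroup 𝒢) ≤ m := by
  have h1 := orbit_ge hP hr hN
  have h2 := card_orbit_mul NY (getG TJ k)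
  rw [card_NY] at h2
  by_contra h
  have h3 : m + 1 ≤ Nat.card (NY ⊓ Subgroup.centralizer {getG TJ k} : Subgroup 𝒢) := by omega
  have h4 := Nat.mul_le_mul h1 h3
  omega

theorem card0 : Nat.card (NY ⊓ Subgroup.centralizer {getG TJ 0} : Subgroup 𝒢) ≤ 2688 :=
  card_le (P := PL.take 5) (N := 990) (List.take_sublist _ _) (by decide +kernel) (by decide +kernel) (by norm_num)

theorem card1 : Nat.card (NY ⊓ Subgroup.centralizer {getG TJ 1} : Subgroup 𝒢) ≤ 2688 :=
  card_le (P := (PL.drop 5).take 5) (N := 990) ((List.take_sublist _ _).trans (List.drop_sublist _ _))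
    (by decide +kernel) (by decide +kernel) (by norm_num)

theorem card2 : Nat.card (NY ⊓ Subgroup.centralizer {getG TJ 2} : Subgroup 𝒢) ≤ 320 :=
  card_le (P := PL.drop 10) (N := 8316) (List.drop_sublist _ _) (by decide +kernel) (by decide +kernel) (by norm_num)

end Cfsg.Agent.H111.JM.ZAll
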