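import Cfsg.Agent.H111.JM.ZAll

/-!
# The elements of order 3 of the centralizers of `⟨y0, t_k⟩`, tests (helper111, S5580)
-/

set_option autoImplicit false
set_option maxRecDepth 100000

open Cfsg

namespace Cfsg.Agent.H111.JM.ZList

open Cfsg.Agent.Lib Cfsg.Agent.Lib.F2Mat Cfsg.Agent.Lib.F2MatGroup
open Cfsg.Agent.J4.Rep112
open Cfsg.Agent.H858.VK
open Cfsg.Agent.H878.JM.Base (c1 c2 c3 t1 t2 t3 y0 y0_cube y0_ne c1_y0 c2_y0 c3_y0)
open Cfsg.Agent.H111.JM.Eng Cfsg.Agent.H111.JM.Env Cfsg.Agent.H111.JM.G0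
open Cfsg.Agent.H111.JM.TList Cfsg.Agent.H111.JM.Sol Cfsg.Agent.H111.JM.Trip
open Cfsg.Agent.H111.JM.EngR Cfsg.Agent.H111.JM.ZD Cfsg.Agent.H111.JM.PZ Cfsg.Agent.H111.JM.ZAll

/-- the group `Spor.J4` -/
local notation "𝒢" => Cfsg.Spor.J4

attribute [local irreducible] c1 c2 c3 t1 t2 t3 y0

/-! ### Soundness of the tests -/

theorem cub_of {z : 𝒢} {M : ℕ} (hM : Codes 112 (rho z) M) (h : z * z * z = 1) : cub M = true := by
  have e : rho z * rho z * rho z = 1 := by rw [← map_mul, ← map_mul, h, map_one]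
  have h1 : vmul 112 (vmul 112 (vmul 112 v0 M) M) M = v0 := by
    refine toVec_inj (n := 112) (vmul_lt _ _) (by decide +kernel) ?_
    rw [codes_vmul hM, codes_vmul hM, codes_vmul hM, Matrix.vecMul_vecMul, Matrix.vecMul_vecMul,
      ← Units.val_mul, ← Units.val_mul, ← mul_assoc, e, Units.val_one, Matrix.vecMul_one]
  unfold cub
  rw [h1]
  exact Nat.beq_refl _

theorem six_of {F z : 𝒢} {N M : ℕ} (hF : Codes 112 (rho F) N) (hM : Codes 112 (rho z) M)
    (h : (F * z) ^ 6 = 1) : six N M = true := by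
  have hA : Codes 112 (rho (F * z)) (F2Mat.mul 112 N M) := by rw [map_mul]; exact hF.mul hM
  have e : rho (F * z) * (rho (F * z) * (rho (F * z) * (rho (F * z) * (rho (F * z) * rho (F * z))))) = 1 := by
    rw [← map_mul, ← map_mul, ← map_mul, ← map_mul, ← map_mul, ← map_one rho, ← h]
    congr 1
    simp only [pow_succ, pow_zero, one_mul, mul_assoc]
  unfold six
  rw [force_eq]
  generalize F2Mat.mul 112 N M = A at hA
  have h1 : vmul 112 (vmul 112 (vmul 112 (vmul 112 (vmul 112 (vmul 112 v1 A) A) A) A) A) A = v1 := by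
    refine toVec_inj (n := 112) (vmul_lt _ _) (by decide +kernel) ?_
    rw [codes_vmul hA, codes_vmul hA, codes_vmul hA, codes_vmul hA, codes_vmul hA, codes_vmul hA]
    simp only [Matrix.vecMul_vecMul]
    rw [← Units.val_mul, ← Units.val_mul, ← Units.val_mul, ← Units.val_mul, ← Units.val_mul]
    simp only [mul_assoc] at e ⊢
    rw [e, Units.val_one, Matrix.vecMul_one]
  rw [h1]
  exact Nat.beq_refl _

theorem tz_bool {k c s0 s1 s2 s5 s6 s4 e : Bool}
    (h : cond k (cond c (cond s0 false (cond s1 false (cond s2 false (cond s5 false (cond s6 false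
      (cond s4 e true)))))) true) false = true) :
    k = true ∧ (c = true → s0 = false ∧ s1 = false ∧ s2 = false ∧ s5 = false ∧ s6 = false ∧
      (s4 = true → e = true)) := by
  cases k
  · exact absurd h Bool.false_ne_true
  refine ⟨rfl, fun hc => ?_⟩
  rw [hc] at h
  cases s0
  · cases s1
    · cases s2
      · cases s5
        · cases s6
          · refine ⟨rfl, rfl, rfl, rfl, rfl, fun h4 => ?_⟩
            rw [h4] at h
            exact h
          · exact absurd h Bool.false_ne_true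
        · exact absurd h Bool.false_ne_true
      · exact absurd h Bool.false_ne_true
    · exact absurd h Bool.false_ne_true
  · exact absurd h Bool.false_ne_true

theorem th_bool {k c e : Bool} (h : cond k (cond c e true) false = true) : k = true ∧ (c = true → e = true) := by
  revert h; cases k <;> cases c <;> cases e <;> decide

/-! ### The list for `t1` and `t2` -/

/-- the test of a pair -/
def RZ (z : 𝒢) (a : ℕ) : Prop := ∃ M, Codes 112 (rho z) M ∧ tz a M = true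
/-- the test of a pair -/
def RH (z : 𝒢) (a : ℕ) : Prop := ∃ M, Codes 112 (rho z) M ∧ th a M = true

theorem RZ.key {z : 𝒢} {a : ℕ} (h : RZ z a) : HasKey 112 1470 20 (rho z) a := by
  obtain ⟨M, h1, h2⟩ := h
  exact ⟨M, h1, Nat.eq_of_beq_eq_true (tz_bool h2).1⟩

theorem RH.key {z : 𝒢} {a : ℕ} (h : RH z a) : HasKey 112 3024 14 (rho z) a := by
  obtain ⟨M, h1, h2⟩ := h
  exact ⟨M, h1, Nat.eq_of_beq_eq_true (th_bool h2).1⟩

theorem fz {pa pg kz : List ℕ} (h : pchk 112 LG tz pa pg kz = true) : List.Forall₂ RZ (pvis GZ pa pg) kz := by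
  have h1 := pchk_sound hG h
  rw [pvis_map, List.forall₂_map_left_iff] at h1
  exact h1

theorem fh {pa pg kz : List ℕ} (h : pchk 112 LH th pa pg kz = true) : List.Forall₂ RH (pvis GH pa pg) kz := by
  have h1 := pchk_sound hH h
  rw [pvis_map, List.forall₂_map_left_iff] at h1
  exact h1

/-- the 2688 elements -/
noncomputable def ZL : List 𝒢 := [pvis GZ pa0 pg0, pvis GZ pa1 pg1, pvis GZ pa2 pg2, pvis GZ pa3 pg3,
  pvis GZ pa4 pg4, pvis GZ pa5 pg5, pvis GZ pa6 pg6, pvis GZ pa7 pg7, pvis GZ pa8 pg8, pvis GZ pa9 pg9,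
  pvis GZ pa10 pg10, pvis GZ pa11 pg11].flatten
/-- the keys -/
def KZ : List (List ℕ) := [kz0, kz1, kz2, kz3, kz4, kz5, kz6, kz7, kz8, kz9, kz10, kz11]

theorem forall_ZL : List.Forall₂ RZ ZL KZ.flatten :=
  forall₂_flatten (.cons (fz z0) (.cons (fz z1) (.cons (fz z2) (.cons (fz z3) (.cons (fz z4) (.cons (fz z5)
    (.cons (fz z6) (.cons (fz z7) (.cons (fz z8) (.cons (fz z9) (.cons (fz z10) (.cons (fz z11) .nil))))))))))))

theorem nodup_KZ : KZ.flatten.Nodup := nd_sound 20 _ (by decide +kernel)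
theorem length_KZ : KZ.flatten.length = 2688 := by decide +kernel
theorem nodup_kh : kh.Nodup := nd_sound 14 _ (by decide +kernel)
theorem length_kh : kh.length = 320 := by decide +kernel

theorem nodup_ZL : ZL.Nodup :=
  nodup_of_keys (R := RZ) (fun _ _ _ h1 h2 => HasKey.unique (by norm_num) h1.key h2.key) forall_ZL nodup_KZ

theorem nodup_HL : (pvis GH [] ph).Nodup :=
  nodup_of_keys (R := RH) (fun _ _ _ h1 h2 => HasKey.unique (by norm_num) h1.key h2.key) (fh zh) nodup_kh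

theorem comm_w {w : List ℕ} {k : ℕ} (h : Nat.beq (evW 112 LM (w ++ [k])) (evW 112 LM ([k] ++ w)) = true) :
    evG L0 w * getG L0 k = getG L0 k * evG L0 w := by
  have h1 := eq_w h
  rwa [evG_append', evG_append', evG_cons, evG_nil, mul_one] at h1

theorem GZ_comm : ∀ c ∈ GZ, c * y0 = y0 * c ∧ c * t1 = t1 * c ∧ c * t2 = t2 * c := by
  intro c hc
  simp only [GZ, List.mem_cons, List.not_mem_nil, or_false] at hc
  rcases hc with h | h | h | h
  · rw [h]
    exact ⟨comm_w (w := gw0) (k := 9) (by decide +kernel), comm_w (w := gw0) (k := 14) (by decide +kernel),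
      comm_w (w := gw0) (k := 15) (by decide +kernel)⟩
  · rw [h]
    exact ⟨comm_w (w := gw1) (k := 9) (by decide +kernel), comm_w (w := gw1) (k := 14) (by decide +kernel),
      comm_w (w := gw1) (k := 15) (by decide +kernel)⟩
  · rw [h]
    exact ⟨comm_w (w := gw2) (k := 9) (by decide +kernel), comm_w (w := gw2) (k := 14) (by decide +kernel),
      comm_w (w := gw2) (k := 15) (by decide +kernel)⟩
  · rw [h]
    exact ⟨comm_w (w := gw3) (k := 9) (by decide +kernel), comm_w (w := gw3) (k := 14) (by decide +kernel),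
      comm_w (w := gw3) (k := 15) (by decide +kernel)⟩

theorem GH_comm : ∀ c ∈ GH, c * y0 = y0 * c ∧ c * t3 = t3 * c := by
  intro c hc
  simp only [GH, List.mem_cons, List.not_mem_nil, or_false] at hc
  rcases hc with h | h | h
  · rw [h]
    exact ⟨comm_w (w := hw0) (k := 9) (by decide +kernel), comm_w (w := hw0) (k := 16) (by decide +kernel)⟩
  · rw [h]
    exact ⟨comm_w (w := hw1) (k := 9) (by decide +kernel), comm_w (w := hw1) (k := 16) (by decide +kernel)⟩
  · rw [h]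
    exact ⟨comm_w (w := hw2) (k := 9) (by decide +kernel), comm_w (w := hw2) (k := 16) (by decide +kernel)⟩

/-- the subgroup of the elements centralizing `y0` and `t` -/
noncomputable def KT (t : 𝒢) : Subgroup 𝒢 := NY ⊓ Subgroup.centralizer {t}

theorem mem_KT {t z : 𝒢} : z ∈ KT t ↔ z * y0 = y0 * z ∧ z * t = t * z := by
  unfold KT
  rw [Subgroup.mem_inf, mem_NY, Subgroup.mem_centralizer_singleton_iff]

theorem ZL_mem {t : 𝒢} (ht : ∀ c ∈ GZ, c * t = t * c) : ∀ z ∈ ZL, z ∈ KT t := by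
  have hG : ∀ c ∈ GZ, c ∈ KT t := fun c hc => mem_KT.2 ⟨(GZ_comm c hc).1, ht c hc⟩
  intro z hz
  obtain ⟨l, hl, h1⟩ := List.mem_flatten.1 hz
  simp only [List.mem_cons, List.not_mem_nil, or_false] at hl
  rcases hl with h | h | h | h | h | h | h | h | h | h | h | h
  all_goals
    rw [h] at h1
    exact pvis_mem hG _ _ z h1

/-- the elements of `KT t1` and `KT t2` -/
theorem mem_ZL {t z : 𝒢} (ht : ∀ c ∈ GZ, c * t = t * c) (hc : Nat.card (KT t) ≤ 2688) (hz : z ∈ KT t) :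
    z ∈ ZL := by
  refine mem_of_card (P := fun z => z ∈ KT t) (ZL_mem ht) nodup_ZL ?_ hz
  rw [forall_ZL.length_eq, length_KZ]
  exact hc

theorem mem_HL {t z : 𝒢} (ht : ∀ c ∈ GH, c * t = t * c) (hc : Nat.card (KT t) ≤ 320) (hz : z ∈ KT t) :
    z ∈ pvis GH [] ph := by
  have hG : ∀ c ∈ GH, c ∈ KT t := fun c hc => mem_KT.2 ⟨(GH_comm c hc).1, ht c hc⟩
  refine mem_of_card (P := fun z => z ∈ KT t) (pvis_mem hG _ _) nodup_HL ?_ hz
  rw [(fh zh).length_eq, length_kh]
  exact hc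

theorem exists_key {α : Type*} {R : α → ℕ → Prop} {L : List α} {K : List ℕ} (h : List.Forall₂ R L K)
    {g : α} (hg : g ∈ L) : ∃ a, R g a := by
  induction h with
  | nil => exact absurd hg List.not_mem_nil
  | @cons c b L K h1 _ ih =>
    rcases List.mem_cons.1 hg with rfl | hg
    · exact ⟨b, h1⟩
    · exact ih hg

/-! ### The conclusion -/

theorem case12 {t z : 𝒢} (ht : ∀ c ∈ GZ, c * t = t * c) (hc : Nat.card (KT t) ≤ 2688)
    (h1 : z * y0 = y0 * z) (h2 : z * t = t * z) (h3 : z * z * z = 1) :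
    (Fm 0 * z) ^ 6 ≠ 1 ∧ (Fm 1 * z) ^ 6 ≠ 1 ∧ (Fm 2 * z) ^ 6 ≠ 1 ∧ (Fm 5 * z) ^ 6 ≠ 1 ∧ (Fm 6 * z) ^ 6 ≠ 1 ∧
      ((Fm 4 * z) ^ 6 = 1 → Codes 112 (rho z) mz) := by
  obtain ⟨a, M, hM, hR⟩ := exists_key forall_ZL (mem_ZL ht hc (mem_KT.2 ⟨h1, h2⟩))
  obtain ⟨s0, s1, s2, s5, s6, s4⟩ := (tz_bool hR).2 (cub_of hM h3)
  have key : ∀ {F : 𝒢} {N : ℕ}, Codes 112 (rho F) N → six N M = false → (F * z) ^ 6 ≠ 1 := by
    intro F N hF hs h
    rw [six_of hF hM h] at hs
    exact absurd hs (by decide)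
  refine ⟨key cF0 s0, key cF1 s1, key cF2 s2, key cF5 s5, key cF6 s6, fun h => ?_⟩
  rw [← Nat.eq_of_beq_eq_true (s4 (six_of cF4 hM h))]
  exact hM

theorem case3 {t z : 𝒢} (ht : ∀ c ∈ GH, c * t = t * c) (hc : Nat.card (KT t) ≤ 320)
    (h1 : z * y0 = y0 * z) (h2 : z * t = t * z) (h3 : z * z * z = 1) : z = 1 := by
  obtain ⟨a, M, hM, hR⟩ := exists_key (fh zh) (mem_HL ht hc (mem_KT.2 ⟨h1, h2⟩))
  have s := (th_bool hR).2 (cub_of hM h3)
  rw [Nat.eq_of_beq_eq_true s] at hM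
  exact rho_injective (Codes.eq hM (by rw [map_one]; exact Codes.one 112) (Nat.beq_refl _))

/-- **the extensions of the triples** -/
theorem zcase {m : ℕ} (hm : m < 8) {z : 𝒢} (h1 : z * y0 = y0 * z) (h2 : z * getG TJ (kr m) = getG TJ (kr m) * z)
    (h3 : z * z * z = 1) (hz : z ≠ 1) (h6 : (Fm m * z) ^ 6 = 1) : m = 4 ∧ Codes 112 (rho z) mz := by
  have a1 : ∀ c ∈ GZ, c * getG TJ 0 = getG TJ 0 * c := fun c hc => (GZ_comm c hc).2.1
  have a2 : ∀ c ∈ GZ, c * getG TJ 1 = getG TJ 1 * c := fun c hc => (GZ_comm c hc).2.2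
  have a3 : ∀ c ∈ GH, c * getG TJ 2 = getG TJ 2 * c := fun c hc => (GH_comm c hc).2
  interval_cases m
  · exact absurd h6 (case12 a1 card0 h1 h2 h3).1
  · exact absurd h6 (case12 a1 card0 h1 h2 h3).2.1
  · exact absurd h6 (case12 a2 card1 h1 h2 h3).2.2.1
  · exact absurd (case3 a3 card2 h1 h2 h3) hz
  · exact ⟨rfl, (case12 a1 card0 h1 h2 h3).2.2.2.2.2 h6⟩
  · exact absurd h6 (case12 a1 card0 h1 h2 h3).2.2.2.1
  · exact absurd h6 (case12 a2 card1 h1 h2 h3).2.2.2.2.1
  · exact absurd (case3 a3 card2 h1 h2 h3) hz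

end Cfsg.Agent.H111.JM.ZList
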